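import Groth.Agent.FlatMorSmoothSect.Algebra

/-! Smooth morphisms have sections étale locally. -/

universe u

open AlgebraicGeometry CategoryTheory Limits TopologicalSpace

namespace Groth.Agent.FlatMorSmoothSect

set_option backward.isDefEq.respectTransparency false

theorem exists_section_etale_locally {X S : Scheme.{u}} (f : X ⟶ S) [Smooth f] (x : X) :
    ∃ (S' : Scheme.{u}) (g : S' ⟶ S) (s' : S'), Etale g ∧ g s' = f x ∧
      ∃ h : S' ⟶ X, h ≫ f = g := by
  obtain ⟨U, hU, V, hV, hxV, e, hss⟩ := Smooth.exists_isStandardSmooth f x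
  obtain ⟨n, γ, hγ, hγet⟩ := hss.exists_etale_mvPolynomial
  let A := Γ(S, U)
  let gS : Spec Γ(X, V) ⟶ Spec (CommRingCat.of (MvPolynomial (Fin n) A)) :=
    Spec.map (CommRingCat.ofHom γ)
  have hgS : Etale gS := (HasRingHomProperty.Spec_iff (P := @Etale)).2 hγet
  have hCγ : gS ≫ Spec.map (CommRingCat.ofHom (MvPolynomial.C : A →+* MvPolynomial (Fin n) A)) =
      Spec.map (f.appLE U V e) := by
    rw [← Spec.map_comp, ← CommRingCat.ofHom_comp, hγ]
    rfl
  let x₀ := hV.primeIdealOf ⟨x, hxV⟩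
  let q := gS x₀
  obtain ⟨_, ⟨_, ⟨F, rfl⟩, rfl⟩, hqF, hFsub⟩ := PrimeSpectrum.isBasis_basic_opens.exists_subset_of_mem_open
    (show q ∈ Set.range gS from ⟨x₀, rfl⟩) gS.isOpenMap.isOpen_range
  let p : Ideal A := q.asIdeal.comap (MvPolynomial.C : A →+* MvPolynomial (Fin n) A)
  have hF : MvPolynomial.map (algebraMap A p.ResidueField) F ≠ 0 := by
    intro h0
    refine hqF ?_
    have hmem : F ∈ p.map (MvPolynomial.C : A →+* MvPolynomial (Fin n) A) := by
      rw [MvPolynomial.mem_map_C_iff]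
      intro m
      have := congrArg (MvPolynomial.coeff m) h0
      rw [MvPolynomial.coeff_map, MvPolynomial.coeff_zero] at this
      rwa [← RingHom.mem_ker, Ideal.ker_algebraMap_residueField] at this
    exact Ideal.map_comap_le hmem
  obtain ⟨R, _, _, P, a, hR, hP, hPp, hPF⟩ := exists_etale_avoiding p F hF
  let h₁ : Spec (CommRingCat.of R) ⟶ Spec (CommRingCat.of (MvPolynomial (Fin n) A)) :=
    Spec.map (CommRingCat.ofHom (MvPolynomial.aeval a).toRingHom)
  let P₀ : Spec (CommRingCat.of R) := (⟨P, hP⟩ : PrimeSpectrum R)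
  have hP₀ : h₁ P₀ ∈ Set.range gS := hFsub hPF
  obtain ⟨w, hw⟩ := hP₀
  obtain ⟨t, -, ht⟩ := Scheme.Pullback.exists_preimage_pullback (f := gS) (g := h₁) w P₀ hw
  let πR : Spec (CommRingCat.of R) ⟶ Spec A := Spec.map (CommRingCat.ofHom (algebraMap A R))
  have hπR : Etale πR := (HasRingHomProperty.Spec_iff (P := @Etale)).2 (RingHom.etale_algebraMap.2 hR)
  have hh₁ : h₁ ≫ Spec.map (CommRingCat.ofHom (MvPolynomial.C : A →+* MvPolynomial (Fin n) A)) = πR := by
    rw [← Spec.map_comp, ← CommRingCat.ofHom_comp]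
    congr 2
    ext z
    simp
  have hsnd : Etale (pullback.snd gS h₁) := MorphismProperty.pullback_snd _ _ hgS
  refine ⟨pullback gS h₁, pullback.snd gS h₁ ≫ πR ≫ hU.fromSpec, t, inferInstance, ?_,
    pullback.fst gS h₁ ≫ hV.fromSpec, ?_⟩
  · rw [Scheme.Hom.comp_apply, Scheme.Hom.comp_apply, ht]
    have hx : hU.fromSpec (Spec.map (f.appLE U V e) x₀) = f x := by
      rw [← Scheme.Hom.comp_apply, hU.SpecMap_appLE_fromSpec f hV e, Scheme.Hom.comp_apply,
        hV.fromSpec_primeIdealOf]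
    rw [← hx, ← hCγ, Scheme.Hom.comp_apply]
    exact congrArg hU.fromSpec (PrimeSpectrum.ext hPp)
  · rw [Category.assoc, ← hU.SpecMap_appLE_fromSpec f hV e, ← hCγ, Category.assoc,
      pullback.condition_assoc, reassoc_of% hh₁]

end Groth.Agent.FlatMorSmoothSect
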