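import Groth.Agent.FlatMorWeight.EtaleSplit

/-! Étale algebras with points avoiding a polynomial. -/

universe u

open Polynomial

namespace Groth.Agent.FlatMorSmoothSect

set_option backward.isDefEq.respectTransparency false

theorem infinite_of_isSepClosed (K : Type u) [Field K] [IsSepClosed K] : Infinite K := by
  rcases finite_or_infinite K with h | h
  · haveI : PerfectField K := PerfectField.ofFinite
    haveI : IsAlgClosed K := inferInstance
    infer_instance
  · exact h

theorem exists_common_denominator {A : Type u} [CommRing A] (p : Ideal A) [p.IsPrime]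
    (t : Finset p.ResidueField) : ∃ c : A, algebraMap A p.ResidueField c ≠ 0 ∧
      ∀ a ∈ t, algebraMap A p.ResidueField c * a ∈ Set.range (algebraMap A p.ResidueField) := by
  classical
  have hone : ∀ a : p.ResidueField, ∃ c : A, algebraMap A p.ResidueField c ≠ 0 ∧
      algebraMap A p.ResidueField c * a ∈ Set.range (algebraMap A p.ResidueField) := by
    intro a
    obtain ⟨⟨x, s, hs⟩, has⟩ := IsLocalization.surj (nonZeroDivisors (A ⧸ p)) a
    obtain ⟨x, rfl⟩ := Ideal.Quotient.mk_surjective x
    obtain ⟨s, rfl⟩ := Ideal.Quotient.mk_surjective s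
    refine ⟨s, fun h0 => ?_, x, ?_⟩
    · rw [← RingHom.mem_ker, Ideal.ker_algebraMap_residueField] at h0
      exact nonZeroDivisors.ne_zero hs (Ideal.Quotient.eq_zero_iff_mem.mpr h0)
    · rw [mul_comm]; exact has.symm
  choose c hc0 hc using hone
  refine ⟨∏ a ∈ t, c a, ?_, fun a ha => ?_⟩
  · rw [map_prod]; exact Finset.prod_ne_zero_iff.2 fun a _ => hc0 a
  · obtain ⟨x, hx⟩ := hc a
    refine ⟨x * ∏ b ∈ t.erase a, c b, ?_⟩
    rw [← Finset.mul_prod_erase t c ha, map_mul, map_mul, hx]
    ring

/-- A finite separable extension with a point avoiding a nonzero polynomial. -/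
theorem exists_sep_point (k : Type u) [Field k] {n : ℕ} (G : MvPolynomial (Fin n) k) (hG : G ≠ 0) :
    ∃ (L : Type u) (_ : Field L) (_ : Algebra k L) (y : Fin n → L),
      FiniteDimensional k L ∧ Algebra.IsSeparable k L ∧ MvPolynomial.aeval y G ≠ 0 := by
  let ks := SeparableClosure k
  haveI := infinite_of_isSepClosed ks
  obtain ⟨x, hx⟩ : ∃ x : Fin n → ks,
      MvPolynomial.eval x (MvPolynomial.map (algebraMap k ks) G) ≠ 0 := by
    by_contra! h
    refine hG (MvPolynomial.map_injective _ (algebraMap k ks).injective ?_)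
    rw [map_zero]
    exact MvPolynomial.funext fun x => by rw [h x, map_zero]
  let L := IntermediateField.adjoin k (Set.range x)
  haveI : FiniteDimensional k L :=
    IntermediateField.finiteDimensional_adjoin fun y _ => Algebra.IsIntegral.isIntegral y
  let y : Fin n → L := fun i => ⟨x i, IntermediateField.subset_adjoin k _ ⟨i, rfl⟩⟩
  refine ⟨L, inferInstance, inferInstance, y, inferInstance,
    Algebra.isSeparable_tower_bot_of_isSeparable k L ks, fun h => hx ?_⟩
  rw [MvPolynomial.eval_map, ← MvPolynomial.aeval_def]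
  have := congrArg L.val h
  rw [MvPolynomial.comp_aeval_apply, map_zero] at this
  exact this

theorem mem_adjoin_smul {A k L : Type u} [CommRing A] [Field k] [Algebra A k] [Field L] [Algebra A L]
    [Algebra k L] [IsScalarTower A k L] [FiniteDimensional k L] (α : L)
    (hα : IntermediateField.adjoin k ({α} : Set L) = ⊤) (c : A) (hc : algebraMap A k c ≠ 0) (y : L) :
    y ∈ Algebra.adjoin k ({c • α} : Set L) := by
  have h1 : y ∈ Algebra.adjoin k {α} := by
    rw [← IntermediateField.adjoin_simple_toSubalgebra_of_isAlgebraic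
      (Algebra.IsAlgebraic.isAlgebraic α), hα]
    trivial
  refine Algebra.adjoin_le ?_ h1
  rw [Set.singleton_subset_iff, SetLike.mem_coe]
  have : α = (algebraMap A k c)⁻¹ • (c • α) := by
    rw [← algebraMap_smul k c α, smul_smul, inv_mul_cancel₀ hc, one_smul]
  have hm := Subalgebra.smul_mem _ (Algebra.subset_adjoin (R := k) (Set.mem_singleton (c • α)))
    (algebraMap A k c)⁻¹
  rwa [← this] at hm

theorem exists_lift_mul {A k L S : Type u} [CommRing A] [Field k] [Algebra A k] [Field L]
    [Algebra A L] [Algebra k L] [IsScalarTower A k L] [CommRing S] [Algebra A S]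
    (hden : ∀ t : Finset k, ∃ c : A, algebraMap A k c ≠ 0 ∧
      ∀ a ∈ t, algebraMap A k c * a ∈ Set.range (algebraMap A k))
    (ψ : S →ₐ[A] L) (x : S) (y : L) (hy : y ∈ Algebra.adjoin k ({ψ x} : Set L)) :
    ∃ (d : A) (r : S), algebraMap A k d ≠ 0 ∧ ψ r = algebraMap A L d * y := by
  rw [Algebra.adjoin_singleton_eq_range_aeval] at hy
  obtain ⟨G, rfl⟩ := hy
  obtain ⟨d, hd, hdG⟩ := hden G.coeffs
  have hl : Polynomial.C (algebraMap A k d) * G ∈ Polynomial.lifts (algebraMap A k) := by
    rw [Polynomial.lifts_iff_coeff_lifts]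
    intro i
    rw [coeff_C_mul]
    by_cases h0 : G.coeff i = 0
    · exact ⟨0, by rw [map_zero, h0, mul_zero]⟩
    · exact hdG _ (Polynomial.coeff_mem_coeffs h0)
  obtain ⟨G', hG'⟩ := (Polynomial.mem_lifts _).mp hl
  refine ⟨d, aeval x G', hd, ?_⟩
  rw [← aeval_algHom_apply, ← aeval_map_algebraMap k (ψ x) G', hG', map_mul, aeval_C,
    ← IsScalarTower.algebraMap_apply A k L]
  rfl

theorem exists_localization_lift {A k L S : Type u} [CommRing A] [Field k] [Algebra A k] [Field L]
    [Algebra A L] [Algebra k L] [IsScalarTower A k L] [CommRing S] [Algebra A S] [Algebra.Etale A S]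
    (ψ : S →ₐ[A] L) {n : ℕ} (y : Fin n → L)
    (h : ∀ i, ∃ (d : A) (r : S), algebraMap A k d ≠ 0 ∧ ψ r = algebraMap A L d * y i) :
    ∃ (R : Type u) (_ : CommRing R) (_ : Algebra A R) (ρ : R →ₐ[A] L) (a : Fin n → R),
      Algebra.Etale A R ∧ ∀ i, ρ (a i) = y i := by
  classical
  choose d r hd hr using h
  let D : S := algebraMap A S (∏ i, d i)
  have hψD : IsUnit (ψ D) := by
    rw [AlgHom.commutes, map_prod, isUnit_iff_ne_zero, Finset.prod_ne_zero_iff]
    intro i _
    rw [IsScalarTower.algebraMap_apply A k L]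
    exact (_root_.map_ne_zero _).mpr (hd i)
  let R := Localization.Away D
  let ρ₀ : R →+* L := IsLocalization.Away.lift D (g := ψ.toRingHom) hψD
  have hρ : ∀ z, ρ₀ (algebraMap S R z) = ψ z := fun z => IsLocalization.Away.lift_eq _ _ z
  have hcomm : ∀ z, ρ₀ (algebraMap A R z) = algebraMap A L z := fun z => by
    rw [IsScalarTower.algebraMap_apply A S R, hρ, AlgHom.commutes]
  let ρ : R →ₐ[A] L := { ρ₀ with commutes' := hcomm }
  haveI : Algebra.Etale S R := Algebra.Etale.of_isLocalizationAway D
  refine ⟨R, inferInstance, inferInstance, ρ, fun i => algebraMap S R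
    (r i * algebraMap A S (∏ j ∈ Finset.univ.erase i, d j)) * IsLocalization.Away.invSelf D,
    Algebra.Etale.comp A S R, fun i => ?_⟩
  have h1 : ρ₀ (algebraMap S R D) * ρ₀ (IsLocalization.Away.invSelf D) = 1 := by
    rw [← map_mul, IsLocalization.Away.mul_invSelf, map_one]
  rw [hρ] at h1
  have h2 : ψ (r i * algebraMap A S (∏ j ∈ Finset.univ.erase i, d j)) = ψ D * y i := by
    rw [map_mul, hr, AlgHom.commutes, AlgHom.commutes, mul_right_comm, ← map_mul,
      Finset.mul_prod_erase _ _ (Finset.mem_univ i)]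
  show ρ₀ _ = y i
  rw [map_mul, hρ, h2, mul_right_comm, h1, one_mul]

/-- Étale lift of finitely many elements of a finite separable residue extension. -/
theorem exists_etale_lift_tuple {A k L : Type u} [CommRing A] [Field k] [Algebra A k] [Field L]
    [Algebra A L] [Algebra k L] [IsScalarTower A k L] [FiniteDimensional k L]
    [Algebra.IsSeparable k L]
    (hden : ∀ t : Finset k, ∃ c : A, algebraMap A k c ≠ 0 ∧
      ∀ a ∈ t, algebraMap A k c * a ∈ Set.range (algebraMap A k)) {n : ℕ} (y : Fin n → L) :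
    ∃ (R : Type u) (_ : CommRing R) (_ : Algebra A R) (ρ : R →ₐ[A] L) (a : Fin n → R),
      Algebra.Etale A R ∧ ∀ i, ρ (a i) = y i := by
  obtain ⟨α, hα⟩ := Field.exists_primitive_element k L
  obtain ⟨q, c, hqm, hc, hq0, hq1⟩ := FlatMorWeight.exists_simple_root (R := A)
    hden α (Algebra.IsSeparable.isSeparable k α)
  let P₀ : StandardEtalePair A :=
    { f := q, monic_f := hqm, g := derivative q, cond := ⟨1, 0, 1, by simp⟩ }
  have hP : P₀.HasMap (c • α) := ⟨hq0, isUnit_iff_ne_zero.2 hq1⟩
  refine exists_localization_lift (S := P₀.Ring) (k := k) (P₀.lift (c • α) hP) y fun i => ?_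
  refine exists_lift_mul hden _ P₀.X (y i) ?_
  rw [P₀.lift_X]
  exact mem_adjoin_smul α hα c hc (y i)

/-- An étale algebra with a prime over `p` at which given coordinates avoid a polynomial. -/
theorem exists_etale_avoiding {A : Type u} [CommRing A] (p : Ideal A) [p.IsPrime] {n : ℕ}
    (F : MvPolynomial (Fin n) A)
    (hF : MvPolynomial.map (algebraMap A p.ResidueField) F ≠ 0) :
    ∃ (R : Type u) (_ : CommRing R) (_ : Algebra A R) (P : Ideal R) (a : Fin n → R),
      Algebra.Etale A R ∧ P.IsPrime ∧ P.comap (algebraMap A R) = p ∧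
      MvPolynomial.aeval a F ∉ P := by
  obtain ⟨L, _, _, y, _, _, hy⟩ := exists_sep_point p.ResidueField _ hF
  letI : Algebra A L := ((algebraMap p.ResidueField L).comp (algebraMap A p.ResidueField)).toAlgebra
  haveI : IsScalarTower A p.ResidueField L := IsScalarTower.of_algebraMap_eq' rfl
  obtain ⟨R, _, _, ρ, a, hR, ha⟩ := exists_etale_lift_tuple (exists_common_denominator p) y
  refine ⟨R, inferInstance, inferInstance, RingHom.ker ρ.toRingHom, a, hR, RingHom.ker_isPrime _,
    ?_, fun h => hy ?_⟩
  · ext z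
    rw [Ideal.mem_comap, RingHom.mem_ker, AlgHom.toRingHom_eq_coe, RingHom.coe_coe, AlgHom.commutes,
      IsScalarTower.algebraMap_apply A p.ResidueField L,
      map_eq_zero_iff _ (algebraMap p.ResidueField L).injective, ← RingHom.mem_ker,
      Ideal.ker_algebraMap_residueField]
  · rw [MvPolynomial.aeval_map_algebraMap]
    have h' : ρ (MvPolynomial.aeval a F) = 0 := h
    rw [MvPolynomial.comp_aeval_apply, show (fun i => ρ (a i)) = y from funext ha] at h'
    exact h'

end Groth.Agent.FlatMorSmoothSect
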